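import Mathlib
import Cfsg.Prelude.Def_Transfer
import Cfsg.Agent.Lib.Lead.Extraspecial2Rank

/-!
# S3299, final step

`E` extraspecial of width `n ≥ 2` with centre `{1, z}`; `a = g⁻¹ z g ∈ E`, `a ≠ z`.  If the
conjugates `g p g⁻¹` (`p ∈ C_E(a)`) all normalise `{e, e z}` where `e` moves `g z g⁻¹` to
`g z g⁻¹ z`, then `C_E(a)` is abelian of order `2^(2n)`, which is too big.
-/

set_option autoImplicit false
open scoped commutatorElement

namespace Cfsg.Agent.LES99F

open Cfsg.Agent.Lead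
open Cfsg.Agent.S2880 (Ctx)

theorem comm_conj {G : Type*} [Group G] (g p q : G) :
    ⁅g * p * g⁻¹, g * q * g⁻¹⁆ = g * ⁅p, q⁆ * g⁻¹ := by
  simp only [commutatorElement_def]; group

theorem comm_mul_left {G : Type*} [Group G] {ζ f₁ f₂ : G} (h1 : Commute ζ f₁) (h2 : Commute ζ f₂) :
    ⁅ζ * f₁, f₂⁆ = ⁅f₁, f₂⁆ := by
  have hw : Commute ζ (f₁ * f₂ * f₁⁻¹) := (h1.mul_right h2).mul_right h1.inv_right
  simp only [commutatorElement_def, mul_inv_rev]
  calc ζ * f₁ * f₂ * (f₁⁻¹ * ζ⁻¹) * f₂⁻¹ = ζ * (f₁ * f₂ * f₁⁻¹) * ζ⁻¹ * f₂⁻¹ := by group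
    _ = (f₁ * f₂ * f₁⁻¹) * ζ * ζ⁻¹ * f₂⁻¹ := by rw [hw.eq]
    _ = f₁ * f₂ * f₁⁻¹ * f₂⁻¹ := by group

theorem final_contra {G : Type*} [Group G] [Finite G] (E : Subgroup G)
    (hext : Cfsg.IsExtraspecial 2 ↥E) (n : ℕ) (hn : 2 ≤ n)
    (hcard : Nat.card ↥E = 2 ^ (2 * n + 1))
    (z : G) (hzE : z ∈ E) (hz1 : z ≠ 1) (hzc : ∀ a ∈ E, a * z = z * a)
    (g a e : G) (ha : a ∈ E) (hag : g * a * g⁻¹ = z) (haz : a ≠ z)
    (_hez : e * z = z * e)
    (heu : e * (g * z * g⁻¹) * e⁻¹ = g * z * g⁻¹ * z)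
    (hF : ∀ p ∈ E, p * a = a * p →
      (g * p * g⁻¹) * e * (g * p * g⁻¹)⁻¹ = e ∨ (g * p * g⁻¹) * e * (g * p * g⁻¹)⁻¹ = e * z) :
    False := by
  obtain ⟨z', hes, -⟩ := ES2.es_of_extraspecial hext
  have C := hes.ctx
  -- identify the centre
  have hzz' : (z' : G) = z := by
    have hcz : ∀ x : ↥E, x * (⟨z, hzE⟩ : ↥E) = ⟨z, hzE⟩ * x := by
      intro x; apply Subtype.ext; exact hzc x x.2
    rcases hes.cent ⟨z, hzE⟩ hcz with h | h
    · exact absurd (congrArg Subtype.val h) hz1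
    · exact (congrArg Subtype.val h).symm
  have hz2 : z * z = 1 := by
    have := congrArg Subtype.val C.sq
    simpa [hzz'] using this
  have ha1 : a ≠ 1 := by
    rintro rfl
    apply hz1; rw [← hag]; group
  -- the key: elements of `C_E(a)` commute
  have hab : ∀ p ∈ E, p * a = a * p → ∀ q ∈ E, q * a = a * q → p * q = q * p := by
    intro p hp hpa q hq hqa
    by_contra hne
    have hpq : ⁅p, q⁆ = z := by
      rcases C.comm ⟨p, hp⟩ ⟨q, hq⟩ with h | h
      · exfalso; apply hne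
        have h' : ⁅p, q⁆ = 1 := by
          have := congrArg Subtype.val h
          simpa [commutatorElement_def] using this
        exact commutatorElement_eq_one_iff_commute.mp h'
      · have h' := congrArg Subtype.val h
        rw [hzz'] at h'
        simpa [commutatorElement_def] using h'
    -- the conjugates commute with `z`
    have hfz : ∀ r : G, r * a = a * r → (g * r * g⁻¹) * z = z * (g * r * g⁻¹) := by
      intro r hr
      rw [← hag]
      calc g * r * g⁻¹ * (g * a * g⁻¹) = g * (r * a) * g⁻¹ := by group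
        _ = g * (a * r) * g⁻¹ := by rw [hr]
        _ = g * a * g⁻¹ * (g * r * g⁻¹) := by group
    -- `e⁻¹ f e` is `f` or `z f`
    have hconj : ∀ r ∈ E, r * a = a * r →
        e⁻¹ * (g * r * g⁻¹) * e = g * r * g⁻¹ ∨ e⁻¹ * (g * r * g⁻¹) * e = z * (g * r * g⁻¹) := by
      intro r hr hra
      rcases hF r hr hra with h | h
      · left
        have : (g * r * g⁻¹) * e = e * (g * r * g⁻¹) := by
          calc (g * r * g⁻¹) * e = ((g * r * g⁻¹) * e * (g * r * g⁻¹)⁻¹) * (g * r * g⁻¹) := by group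
            _ = e * (g * r * g⁻¹) := by rw [h]
        calc e⁻¹ * (g * r * g⁻¹) * e = e⁻¹ * ((g * r * g⁻¹) * e) := by group
          _ = e⁻¹ * (e * (g * r * g⁻¹)) := by rw [this]
          _ = g * r * g⁻¹ := by group
      · right
        have : (g * r * g⁻¹) * e = e * z * (g * r * g⁻¹) := by
          calc (g * r * g⁻¹) * e = ((g * r * g⁻¹) * e * (g * r * g⁻¹)⁻¹) * (g * r * g⁻¹) := by group
            _ = e * z * (g * r * g⁻¹) := by rw [h]
        calc e⁻¹ * (g * r * g⁻¹) * e = e⁻¹ * ((g * r * g⁻¹) * e) := by group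
          _ = e⁻¹ * (e * z * (g * r * g⁻¹)) := by rw [this]
          _ = z * (g * r * g⁻¹) := by group
    -- commutators are unchanged by the central factors
    have hcomm_z : ∀ f₁ f₂ : G, f₁ * z = z * f₁ → f₂ * z = z * f₂ →
        ∀ f₁' f₂' : G, (f₁' = f₁ ∨ f₁' = z * f₁) → (f₂' = f₂ ∨ f₂' = z * f₂) →
        ⁅f₁', f₂'⁆ = ⁅f₁, f₂⁆ := by
      intro f₁ f₂ h1 h2 f₁' f₂' h1' h2'
      have c1 : Commute z f₁ := h1.symm
      have c2 : Commute z f₂ := h2.symm
      have e1 : ⁅f₁', f₂⁆ = ⁅f₁, f₂⁆ := by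
        rcases h1' with h | h
        · rw [h]
        · rw [h]; exact comm_mul_left c1 c2
      have e2 : ⁅f₁', f₂'⁆ = ⁅f₁', f₂⁆ := by
        rcases h2' with h | h
        · rw [h]
        · rw [h]
          have c1' : Commute z f₁' := by
            rcases h1' with h' | h'
            · rw [h']; exact c1
            · rw [h']; exact (Commute.refl z).mul_right c1
          rw [← commutatorElement_inv f₂ f₁', ← commutatorElement_inv (z * f₂) f₁',
            comm_mul_left c2 c1']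
      rw [e2, e1]
    have hu : ⁅g * p * g⁻¹, g * q * g⁻¹⁆ = g * z * g⁻¹ := by rw [comm_conj, hpq]
    have h1 : e⁻¹ * ⁅g * p * g⁻¹, g * q * g⁻¹⁆ * e =
        ⁅e⁻¹ * (g * p * g⁻¹) * e, e⁻¹ * (g * q * g⁻¹) * e⁆ := by
      simp only [commutatorElement_def]; group
    have h2 : ⁅e⁻¹ * (g * p * g⁻¹) * e, e⁻¹ * (g * q * g⁻¹) * e⁆ =
        ⁅g * p * g⁻¹, g * q * g⁻¹⁆ :=
      hcomm_z _ _ (hfz p hpa) (hfz q hqa) _ _ (hconj p hp hpa) (hconj q hq hqa)
    rw [h2, hu] at h1
    -- so `e` commutes with `g z g⁻¹`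
    have h3 : e * (g * z * g⁻¹) * e⁻¹ = g * z * g⁻¹ := by
      calc e * (g * z * g⁻¹) * e⁻¹ = e * (e⁻¹ * (g * z * g⁻¹) * e) * e⁻¹ := by rw [h1]
        _ = g * z * g⁻¹ := by group
    rw [h3] at heu
    exact hz1 (by simpa using heu.symm)
  -- counting
  let a' : ↥E := ⟨a, ha⟩
  have hnc : ∃ s₀ : ↥E, ⁅a', s₀⁆ ≠ 1 := by
    by_contra hcon
    push Not at hcon
    have hcen : ∀ x : ↥E, x * a' = a' * x := by
      intro x
      exact (commutatorElement_eq_one_iff_commute.mp (hcon x)).eq.symm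
    rcases hes.cent a' hcen with h | h
    · exact ha1 (congrArg Subtype.val h)
    · exact haz ((congrArg Subtype.val h).trans hzz')
  obtain ⟨s₀, hs₀⟩ := hnc
  have hhalf := Cfsg.Agent.S2880.half C (MonoidHom.id ↥E) 1 (Or.inl rfl) a' s₀ hs₀
  let A : Subgroup ↥E := Subgroup.centralizer ({a'} : Set ↥E)
  have hAcard : Nat.card A = Nat.card {s : ↥E // ⁅a', (MonoidHom.id ↥E) s⁆ = 1} := by
    apply Nat.card_congr
    refine Equiv.subtypeEquivRight (fun s => ?_)
    rw [Subgroup.mem_centralizer_iff]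
    simp only [Set.mem_singleton_iff, forall_eq]
    rw [commutatorElement_eq_one_iff_commute]
    exact ⟨fun h => h, fun h => h⟩
  have hAab : IsMulCommutative A := by
    apply ES2.isMulCommutative_of
    intro p hp q hq
    have hp' : (p : G) * a = a * p := by
      have := (Subgroup.mem_centralizer_iff.mp hp) a' rfl
      exact (congrArg Subtype.val this).symm
    have hq' : (q : G) * a = a * q := by
      have := (Subgroup.mem_centralizer_iff.mp hq) a' rfl
      exact (congrArg Subtype.val this).symm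
    exact Subtype.ext (hab p p.2 hp' q q.2 hq')
  have hle := ES2.rank_le hext n hcard A hAab
  rw [hAcard] at hle
  rw [hcard] at hhalf
  have e1 : 2 ^ (2 * n + 1) = 2 * 2 ^ (2 * n) := by rw [pow_succ]; ring
  rw [e1] at hhalf
  have hc : Nat.card {s : ↥E // ⁅a', (MonoidHom.id ↥E) s⁆ = 1} = 2 ^ (2 * n) := by omega
  rw [hc] at hle
  have : 2 * n ≤ n + 1 := (Nat.pow_le_pow_iff_right (by norm_num)).mp hle
  omega

end Cfsg.Agent.LES99F
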