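import Mathlib
import Cfsg.Prelude.Def_Transfer
import Cfsg.Prelude.Def_Solvable
import Cfsg.Agent.Lib.Lead.Extraspecial2Rank
import Cfsg.Agent.Lib.Helper7.Core
import Cfsg.Agent.S5422
import Cfsg.Agent.Lib.Helper5.LES99.F
import Cfsg.Agent.Lib.Helper9.LES99T
import Cfsg.Agent.Lib.Helper6.LES99U
import Cfsg.Agent.H1.LES99C

/-!
# S3299: the extraspecial `O₂(C(z))` lies in every normal subgroup of index 2 of `C(z)`
-/

set_option autoImplicit false
open scoped commutatorElement

namespace Cfsg.Agent.LES99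

open Cfsg.Agent.Lead
open Cfsg.Agent.S2880 (Ctx)

theorem main {G : Type*} [Group G] [Finite G] (hres : Cfsg.pResidual 2 G = ⊤) (z : G)
    (hz : orderOf z = 2) (E : Subgroup G)
    (hE : E = (Cfsg.pCore 2 ↥(Subgroup.centralizer ({z} : Set G))).map
      (Subgroup.centralizer ({z} : Set G)).subtype)
    (hext : Cfsg.IsExtraspecial 2 ↥E) (hcent : Subgroup.centralizer (E : Set G) ≤ E) (n : ℕ)
    (hn : 2 ≤ n) (hcard : Nat.card ↥E = 2 ^ (2 * n + 1))
    (K : Subgroup G) (hKH : K ≤ Subgroup.centralizer ({z} : Set G))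
    (hKn : ∀ h ∈ Subgroup.centralizer ({z} : Set G), K.map (MulAut.conj h).toMonoidHom = K)
    (hKi : K.relIndex (Subgroup.centralizer ({z} : Set G)) = 2) : E ≤ K := by
  classical
  set H : Subgroup G := Subgroup.centralizer ({z} : Set G) with hH
  have memH : ∀ x : G, x ∈ H ↔ x * z = z * x := by
    intro x
    rw [hH, Subgroup.mem_centralizer_iff]
    constructor
    · intro h; exact (h z rfl).symm
    · intro h y hy; rw [Set.mem_singleton_iff.mp hy]; exact h.symm
  have hz2 : z * z = 1 := by rw [← pow_two, ← hz]; exact pow_orderOf_eq_one z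
  have hz1 : z ≠ 1 := by
    intro h; rw [h, orderOf_one] at hz; omega
  have hzi : z⁻¹ = z := inv_eq_of_mul_eq_one_right hz2
  have hEH : E ≤ H := by
    rw [hE]; exact Subgroup.map_subtype_le _
  -- `H` normalises `E`
  have hEn : ∀ h ∈ H, ∀ a ∈ E, h * a * h⁻¹ ∈ E := by
    intro h hh a ha
    rw [hE] at ha ⊢
    obtain ⟨a', ha', rfl⟩ := ha
    have hN := Cfsg.Agent.Lib.Helper7.pCore_normal 2 ↥H
    have := hN.conj_mem a' ha' ⟨h, hh⟩
    exact ⟨_, this, rfl⟩
  have hzH : z ∈ H := (memH z).mpr rfl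
  -- `z ∈ E`
  have hzE : z ∈ E := by
    rw [hE]
    let zH : ↥H := ⟨z, hzH⟩
    have hcen : zH ∈ Subgroup.center ↥H := by
      rw [Subgroup.mem_center_iff]
      intro x
      apply Subtype.ext
      exact ((memH x).mp x.2)
    have hnorm : (Subgroup.zpowers zH).Normal := by
      have hle : Subgroup.zpowers zH ≤ Subgroup.center ↥H := by
        rw [Subgroup.zpowers_le]; exact hcen
      refine ⟨fun n hn g => ?_⟩
      have hnc : n ∈ Subgroup.center ↥H := hle hn
      have : g * n * g⁻¹ = n := by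
        rw [Subgroup.mem_center_iff] at hnc
        rw [hnc g]; group
      rw [this]; exact hn
    have hpg : IsPGroup 2 (Subgroup.zpowers zH) := by
      apply IsPGroup.of_card (n := 1)
      rw [Nat.card_zpowers]
      have : orderOf zH = orderOf z := Subgroup.orderOf_mk z hzH
      rw [this, hz]; norm_num
    have hle := Cfsg.Agent.Lib.Helper7.le_pCore hnorm hpg
    exact ⟨zH, hle (Subgroup.mem_zpowers zH), rfl⟩
  have hzc : ∀ a ∈ E, a * z = z * a := fun a ha => (memH a).mp (hEH ha)
  -- the elementary structure of `E`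
  obtain ⟨z', hes, -⟩ := ES2.es_of_extraspecial hext
  have C := hes.ctx
  have hzz' : (z' : G) = z := by
    have hcz : ∀ x : ↥E, x * (⟨z, hzE⟩ : ↥E) = ⟨z, hzE⟩ * x := by
      intro x; apply Subtype.ext; exact hzc x x.2
    rcases hes.cent ⟨z, hzE⟩ hcz with h | h
    · exact absurd (congrArg Subtype.val h) hz1
    · exact (congrArg Subtype.val h).symm
  have hz'eq : z' = ⟨z, hzE⟩ := Subtype.ext hzz'
  have hcomm : ∀ a ∈ E, ∀ b ∈ E, a * b = b * a ∨ a * b = z * (b * a) := by
    intro a ha b hb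
    rcases C.comm ⟨a, ha⟩ ⟨b, hb⟩ with h | h
    · left
      have h' : ⁅a, b⁆ = 1 := by
        have := congrArg Subtype.val h
        simpa [commutatorElement_def] using this
      exact commutatorElement_eq_one_iff_commute.mp h'
    · right
      have h' : ⁅a, b⁆ = z := by
        have := congrArg Subtype.val h
        rw [hzz'] at this
        simpa [commutatorElement_def] using this
      rw [← h', commutatorElement_def]; group
  have hsq : ∀ a ∈ E, a * a = 1 ∨ a * a = z := by
    intro a ha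
    rcases C.sqr ⟨a, ha⟩ with h | h
    · left; simpa using congrArg Subtype.val h
    · right
      have := congrArg Subtype.val h
      rw [hzz'] at this
      simpa using this
  have hcen : ∀ w ∈ E, (∀ a ∈ E, a * w = w * a) → w = 1 ∨ w = z := by
    intro w hw hall
    rcases hes.cent ⟨w, hw⟩ (fun x => Subtype.ext (hall x x.2)) with h | h
    · left; simpa using congrArg Subtype.val h
    · right
      have := congrArg Subtype.val h
      rw [hzz'] at this
      simpa using this
  -- `K` is normal in `H`, elementwise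
  have hKn' : ∀ h ∈ H, ∀ k ∈ K, h * k * h⁻¹ ∈ K := by
    intro h hh k hk
    have := hKn h hh
    rw [← this]
    exact ⟨k, hk, by simp [MulAut.conj_apply]⟩
  have hKidx : (K.subgroupOf H).index = 2 := hKi
  -- suppose not
  by_contra hEK
  obtain ⟨a₁, ha₁E, ha₁K⟩ := SetLike.not_le_iff_exists.mp hEK
  -- `E ∩ K` has index 2 in `E`
  have hM : (K.subgroupOf E).index = 2 := by
    rw [Subgroup.index_eq_two_iff]
    refine ⟨⟨a₁, ha₁E⟩, fun b => ?_⟩
    have key := Subgroup.mul_mem_iff_of_index_two hKidx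
      (a := ⟨(b : G), hEH b.2⟩) (b := ⟨a₁, hEH ha₁E⟩)
    simp only [Subgroup.mem_subgroupOf, Subgroup.coe_mul] at key ⊢
    by_cases hb : (b : G) ∈ K
    · right
      refine ⟨hb, fun h => ?_⟩
      exact ha₁K ((key.mp h).mp hb)
    · left
      refine ⟨key.mpr ⟨fun h => absurd h hb, fun h => absurd h ha₁K⟩, hb⟩
  obtain ⟨e', u', he'M, he'1, he'z, he'c, he'all, hu'M, hu'2, he'u'⟩ :=
    Cfsg.Agent.LES99U.exists_e_u hes n hn hcard (K.subgroupOf E) hM
  -- translate to `G`
  have heE : (e' : G) ∈ E := e'.2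
  have huE : (u' : G) ∈ E := u'.2
  have heK : (e' : G) ∈ K := he'M
  have huK : (u' : G) ∉ K := hu'M
  have hu2 : (u' : G) * u' = 1 := by simpa using congrArg Subtype.val hu'2
  have heu : (e' : G) * u' = z * (u' * e') := by
    have := congrArg Subtype.val he'u'
    rw [hz'eq] at this
    simpa using this
  have he1 : (e' : G) ≠ 1 := fun h => he'1 (Subtype.ext h)
  have hez : (e' : G) ≠ z := fun h => he'z (Subtype.ext (h.trans hzz'.symm))
  have hu1 : (u' : G) ≠ 1 := fun h => huK (h ▸ K.one_mem)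
  have huz : (u' : G) ≠ z := by
    intro h
    rw [h] at heu
    have h2 : (e' : G) * z = z * e' := hzc _ heE
    rw [h2] at heu
    have : z * (e' : G) = z * (z * e') := heu
    have h3 := mul_left_cancel this
    have : (1 : G) * e' = z * e' := by rw [one_mul]; exact h3
    exact hz1 (mul_right_cancel this).symm
  -- conjugation of `u` by `e`
  have heue : (e' : G) * u' * (e' : G)⁻¹ = u' * z := by
    have h1 : (e' : G) * u' * (e' : G)⁻¹ = z * u' := by
      rw [heu]; group
    rw [h1]; exact (hzc _ huE).symm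
  -- the transfer step
  set P : Subgroup G := E ⊓ Subgroup.centralizer ({(u' : G)} : Set G) with hPdef
  have memP : ∀ c : G, c ∈ P ↔ c ∈ E ∧ c * u' = u' * c := by
    intro c
    rw [hPdef, Subgroup.mem_inf, Subgroup.mem_centralizer_iff]
    constructor
    · rintro ⟨h1, h2⟩; exact ⟨h1, (h2 _ rfl).symm⟩
    · rintro ⟨h1, h2⟩
      refine ⟨h1, fun y hy => ?_⟩
      rw [Set.mem_singleton_iff.mp hy]; exact h2.symm
  have hE2 : IsPGroup 2 ↥E := IsPGroup.of_card hcard
  have hP2 : IsPGroup 2 ↥P := hE2.to_le inf_le_left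
  obtain ⟨x, hxH, hxP⟩ := Cfsg.Agent.LES99T.transfer_fix hres H K P hKH hKn' hKi (u' : G) hu2
    (hEH huE) huK hP2 (inf_le_left.trans hEH) (fun c hc => ((memP c).mp hc).2)
  -- `y = x z x⁻¹`
  have hzP : z ∈ P := (memP z).mpr ⟨hzE, (hzc _ huE).symm⟩
  have conj_comm : ∀ c : G, x⁻¹ * c * x ∈ H → (x * z * x⁻¹) * c = c * (x * z * x⁻¹) := by
    intro c hc
    have h := (memH _).mp hc
    calc (x * z * x⁻¹) * c = x * (z * (x⁻¹ * c * x)) * x⁻¹ := by group
      _ = x * ((x⁻¹ * c * x) * z) * x⁻¹ := by rw [h]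
      _ = c * (x * z * x⁻¹) := by group
  have hyz : (x * z * x⁻¹) * z = z * (x * z * x⁻¹) := conj_comm z (hxP z hzP)
  have hyH : x * z * x⁻¹ ∈ H := (memH _).mpr hyz
  have hy := Cfsg.Agent.LES99C.cent_cent E z (u' : G) (x * z * x⁻¹) hzE hz1 hz2 hzc hcomm hsq hcen
    hcent huE hu2 hu1 huz (fun a ha => hEn _ hyH a ha) hyz
    (fun c hc hcu => conj_comm c (hxP c ((memP c).mpr ⟨hc, hcu⟩)))
  -- `u` is conjugate to `z`
  have hconj : ∃ g : G, g * z * g⁻¹ = u' := by
    rcases hy with h | h | h | h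
    · exfalso; apply hz1
      have : z = x⁻¹ * (x * z * x⁻¹) * x := by group
      rw [this, h]; group
    · exfalso; apply hxH
      rw [memH]
      calc x * z = (x * z * x⁻¹) * x := by group
        _ = z * x := by rw [h]
    · exact ⟨x, h⟩
    · refine ⟨(e' : G) * x, ?_⟩
      calc (e' : G) * x * z * ((e' : G) * x)⁻¹ = e' * (x * z * x⁻¹) * (e' : G)⁻¹ := by group
        _ = e' * (u' * z) * (e' : G)⁻¹ := by rw [h]
        _ = (e' * u' * (e' : G)⁻¹) * (e' * z * (e' : G)⁻¹) := by group
        _ = (u' * z) * (e' * z * (e' : G)⁻¹) := by rw [heue]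
        _ = (u' * z) * (z * e' * (e' : G)⁻¹) := by rw [hzc _ heE]
        _ = u' * (z * z) := by group
        _ = u' := by rw [hz2, mul_one]
  obtain ⟨g, hg⟩ := hconj
  have hgH : g ∉ H := by
    intro h
    apply huz
    rw [← hg, (memH g).mp h]; group
  -- the centre of `E` inside `G`
  set Z : Subgroup G := (Subgroup.center ↥E).map E.subtype with hZdef
  have memZ : ∀ c : G, c ∈ Z ↔ c = 1 ∨ c = z := by
    intro c
    constructor
    · rintro ⟨c', hc', rfl⟩
      have := hes.cent c' (fun x => (Subgroup.mem_center_iff.mp hc' x))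
      rcases this with h | h
      · left; simpa using congrArg Subtype.val h
      · right; rw [h]; exact hzz'
    · rintro (h | h)
      · rw [h]; exact Z.one_mem
      · rw [h]
        have hzcen : (⟨z, hzE⟩ : ↥E) ∈ Subgroup.center ↥E := by
          rw [Subgroup.mem_center_iff]
          intro x; apply Subtype.ext; exact hzc x x.2
        exact ⟨⟨z, hzE⟩, hzcen, rfl⟩
  have hL2 : Subgroup.centralizer (E : Set G) = Z := by
    apply le_antisymm
    · intro c hc
      have hcE := hcent hc
      rw [Subgroup.mem_centralizer_iff] at hc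
      rw [memZ]
      exact hcen c hcE (fun a ha => hc a ha)
    · intro c hc
      rw [Subgroup.mem_centralizer_iff]
      intro a ha
      rcases (memZ c).mp hc with rfl | rfl
      · simp
      · exact hzc a ha
  have hL3 : Subgroup.centralizer (Z : Set G) ≤ Subgroup.normalizer (E : Set G) := by
    intro c hc
    have hcH : c ∈ H := by
      rw [memH]
      rw [Subgroup.mem_centralizer_iff] at hc
      exact (hc z ((memZ z).mpr (Or.inr rfl))).symm
    rw [Subgroup.mem_normalizer_iff]
    intro a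
    constructor
    · intro ha; exact hEn c hcH a ha
    · intro ha
      have := hEn c⁻¹ (H.inv_mem hcH) _ ha
      have e : c⁻¹ * (c * a * c⁻¹) * c⁻¹⁻¹ = a := by group
      rwa [e] at this
  have hgN : g ∉ Subgroup.normalizer (Z : Set G) := by
    intro h
    rw [Subgroup.mem_normalizer_iff] at h
    have := (h z).mp ((memZ z).mpr (Or.inr rfl))
    rw [hg, memZ] at this
    rcases this with h | h
    · exact hu1 h
    · exact huz h
  have hZg : Z.map (MulAut.conj g).toMonoidHom ≤ E := by
    rintro _ ⟨c, hc, rfl⟩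
    rcases (memZ c).mp hc with rfl | rfl
    · simp
    · show g * c * g⁻¹ ∈ E
      rw [hg]; exact huE
  have hres5422 := Cfsg.Agent.S5422.result E hext hL2 hL3 n hn hcard g hgN hZg
  have hzEg : z ∈ E.map (MulAut.conj g).toMonoidHom := hres5422.1 ((memZ z).mpr (Or.inr rfl))
  obtain ⟨a, haE, hag⟩ := hzEg
  have hag' : g * a * g⁻¹ = z := hag
  have haz : a ≠ z := by
    intro h
    rw [h, hg] at hag'
    exact huz hag'
  -- the last step
  refine Cfsg.Agent.LES99F.final_contra E hext n hn hcard z hzE hz1 hzc g a (e' : G) haE hag' haz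
    (hzc _ heE) ?_ ?_
  · rw [hg]; exact heue
  · intro p hp hpa
    set f : G := g * p * g⁻¹ with hf
    have hfH : f ∈ H := by
      rw [memH, ← hag']
      calc f * (g * a * g⁻¹) = g * (p * a) * g⁻¹ := by rw [hf]; group
        _ = g * (a * p) * g⁻¹ := by rw [hpa]
        _ = g * a * g⁻¹ * f := by rw [hf]; group
    have hfiH : f⁻¹ ∈ H := H.inv_mem hfH
    have hcE : f * (e' : G) * f⁻¹ ∈ E := hEn f hfH _ heE
    have hcall : ∀ m ∈ K.subgroupOf E, (⟨f * (e' : G) * f⁻¹, hcE⟩ : ↥E) * m = m * ⟨f * e' * f⁻¹, hcE⟩ := by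
      intro m hm
      apply Subtype.ext
      show f * (e' : G) * f⁻¹ * m = m * (f * e' * f⁻¹)
      have hmK : (m : G) ∈ K := hm
      have hm'E : f⁻¹ * (m : G) * f⁻¹⁻¹ ∈ E := hEn f⁻¹ hfiH _ m.2
      have hm'K : f⁻¹ * (m : G) * f⁻¹⁻¹ ∈ K := hKn' f⁻¹ hfiH _ hmK
      have := he'c ⟨f⁻¹ * (m : G) * f⁻¹⁻¹, hm'E⟩ hm'K
      have h1 : (e' : G) * (f⁻¹ * (m : G) * f⁻¹⁻¹) = (f⁻¹ * (m : G) * f⁻¹⁻¹) * e' := by
        simpa using congrArg Subtype.val this
      calc f * (e' : G) * f⁻¹ * m = f * (e' * (f⁻¹ * (m : G) * f⁻¹⁻¹)) * f⁻¹ := by group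
        _ = f * ((f⁻¹ * (m : G) * f⁻¹⁻¹) * e') * f⁻¹ := by rw [h1]
        _ = m * (f * e' * f⁻¹) := by group
    rcases he'all ⟨f * (e' : G) * f⁻¹, hcE⟩ hcall with h | h | h | h
    · exfalso; apply he1
      have h' : f * (e' : G) * f⁻¹ = 1 := by simpa using congrArg Subtype.val h
      have : (e' : G) = f⁻¹ * (f * e' * f⁻¹) * f := by group
      rw [this, h']; group
    · exfalso; apply hez
      have h' : f * (e' : G) * f⁻¹ = z := by
        have := congrArg Subtype.val h
        rw [hzz'] at this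
        simpa using this
      have : (e' : G) = f⁻¹ * (f * e' * f⁻¹) * f := by group
      rw [this, h']
      have hfz := (memH f).mp hfH
      calc f⁻¹ * z * f = f⁻¹ * (z * f) := by group
        _ = f⁻¹ * (f * z) := by rw [hfz]
        _ = z := by group
    · left; simpa using congrArg Subtype.val h
    · right
      have := congrArg Subtype.val h
      rw [hz'eq] at this
      simpa using this

end Cfsg.Agent.LES99
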